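import Mathlib

/-! Hermite normal forms of matrices over `k[[t]]`. -/

set_option autoImplicit false

open PowerSeries Matrix

namespace Groth.Agent.PSHermite

universe u

variable {k : Type u} [Field k]

/-- block upper triangular matrix with a single entry in the first block -/
def blk {R : Type*} [Zero R] {r : ℕ} (a : R) (v : Fin r → R) (M : Matrix (Fin r) (Fin r) R) :
    Matrix (Fin (r + 1)) (Fin (r + 1)) R :=
  Matrix.of fun i j => Fin.cases (Fin.cases a v j) (fun i' => Fin.cases 0 (M i') j) i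

section blk

variable {R : Type*} [CommRing R] {r : ℕ} (a b : R) (v w : Fin r → R) (M N : Matrix (Fin r) (Fin r) R)

@[simp] theorem blk_zero_zero : blk a v M 0 0 = a := rfl
@[simp] theorem blk_zero_succ (j : Fin r) : blk a v M 0 j.succ = v j := rfl
@[simp] theorem blk_succ_zero (i : Fin r) : blk a v M i.succ 0 = 0 := rfl
@[simp] theorem blk_succ_succ (i j : Fin r) : blk a v M i.succ j.succ = M i j := rfl

theorem eq_blk (A : Matrix (Fin (r + 1)) (Fin (r + 1)) R) (h : ∀ i : Fin r, A i.succ 0 = 0) :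
    A = blk (A 0 0) (fun j => A 0 j.succ) (A.submatrix Fin.succ Fin.succ) := by
  ext i j
  induction i using Fin.cases with
  | zero => induction j using Fin.cases <;> rfl
  | succ i => induction j using Fin.cases with
    | zero => exact h i
    | succ j => rfl

theorem blk_mul : blk a v M * blk b w N = blk (a * b) (a • w + v ᵥ* N) (M * N) := by
  ext i j
  induction i using Fin.cases <;> induction j using Fin.cases <;>
    simp [Matrix.mul_apply, Fin.sum_univ_succ, Matrix.vecMul, dotProduct]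

theorem det_blk : (blk a v M).det = a * M.det := by
  rw [Matrix.det_succ_column_zero, Fin.sum_univ_succ]
  simp only [blk_succ_zero, mul_zero, zero_mul, Finset.sum_const_zero, add_zero, Fin.val_zero, pow_zero,
    one_mul, blk_zero_zero, Fin.succAbove_zero]
  rfl

theorem blk_one : blk (1 : R) 0 (1 : Matrix (Fin r) (Fin r) R) = 1 := by
  ext i j
  induction i using Fin.cases <;> induction j using Fin.cases <;>
    simp [Matrix.one_apply, Fin.succ_ne_zero, (Fin.succ_ne_zero _).symm]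

end blk

/-- `v j` is a polynomial of degree `< e j` -/
def Low {r : ℕ} (e : Fin r → ℕ) (v : Fin r → k⟦X⟧) : Prop := ∀ j n, e j ≤ n → coeff n (v j) = 0

/-- row-reduced with exponents `e` -/
def Red {r : ℕ} (H : Matrix (Fin r) (Fin r) k⟦X⟧) (e : Fin r → ℕ) : Prop :=
  (∀ i, H i i = X ^ e i) ∧ (∀ i j, j < i → H i j = 0) ∧ (∀ i j, i < j → ∀ n, e j ≤ n → coeff n (H i j) = 0)

theorem red_blk {r : ℕ} {H : Matrix (Fin r) (Fin r) k⟦X⟧} {e : Fin r → ℕ} (h : Red H e) (e₀ : ℕ)
    {v : Fin r → k⟦X⟧} (hv : Low e v) : Red (blk (X ^ e₀) v H) (Fin.cons e₀ e) := by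
  refine ⟨fun i => ?_, fun i j hij => ?_, fun i j hij n hn => ?_⟩
  · induction i using Fin.cases <;> simp [h.1]
  · induction i using Fin.cases with
    | zero => exact absurd hij (by simp)
    | succ i => induction j using Fin.cases with
      | zero => rfl
      | succ j => exact h.2.1 i j (Fin.succ_lt_succ_iff.1 hij)
  · induction j using Fin.cases with
    | zero => exact absurd hij (by simp)
    | succ j =>
      rw [Fin.cons_succ] at hn
      induction i using Fin.cases with
      | zero => exact hv j n hn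
      | succ i => exact h.2.2 i j (Fin.succ_lt_succ_iff.1 hij) n hn

theorem red_succ {r : ℕ} {H : Matrix (Fin (r + 1)) (Fin (r + 1)) k⟦X⟧} {e : Fin (r + 1) → ℕ} (h : Red H e) :
    ∃ (v : Fin r → k⟦X⟧) (H' : Matrix (Fin r) (Fin r) k⟦X⟧), H = blk (X ^ e 0) v H' ∧
      Red H' (fun i => e i.succ) ∧ Low (fun i => e i.succ) v := by
  refine ⟨fun j => H 0 j.succ, H.submatrix Fin.succ Fin.succ, ?_, ⟨fun i => h.1 _,
    fun i j hij => h.2.1 _ _ (Fin.succ_lt_succ_iff.2 hij), fun i j hij => h.2.2 _ _ (Fin.succ_lt_succ_iff.2 hij)⟩,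
    fun j n hn => h.2.2 0 j.succ (Fin.succ_pos j) n hn⟩
  rw [← h.1 0]
  exact eq_blk H fun i => h.2.1 _ _ (Fin.succ_pos i)

theorem vecMul_blk {R : Type*} [CommRing R] {r : ℕ} (w : Fin (r + 1) → R) (a : R) (v : Fin r → R)
    (M : Matrix (Fin r) (Fin r) R) :
    w ᵥ* blk a v M = Fin.cons (w 0 * a) (w 0 • v + (fun i => w i.succ) ᵥ* M) := by
  ext j
  induction j using Fin.cases <;> simp [Matrix.vecMul, dotProduct, Fin.sum_univ_succ]

theorem reduce : ∀ {r : ℕ} {H : Matrix (Fin r) (Fin r) k⟦X⟧} {e : Fin r → ℕ} (_ : Red H e)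
    (v : Fin r → k⟦X⟧), ∃ w : Fin r → k⟦X⟧, Low e (v + w ᵥ* H) := by
  intro r
  induction r with
  | zero => exact fun _ _ => ⟨0, fun j => j.elim0⟩
  | succ r ih =>
    intro H e h v
    obtain ⟨x, H', rfl, h', -⟩ := red_succ h
    let w₀ : k⟦X⟧ := mk fun n => - coeff (n + e 0) (v 0)
    obtain ⟨w, hw⟩ := ih h' ((fun j => v j.succ) + w₀ • x)
    refine ⟨Fin.cons w₀ w, fun j n hn => ?_⟩
    rw [vecMul_blk]
    induction j using Fin.cases with
    | zero =>
      obtain ⟨m, rfl⟩ := Nat.exists_eq_add_of_le hn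
      simp [add_comm (e 0) m, coeff_mul_X_pow, w₀]
    | succ j =>
      have := hw j n hn
      simpa [add_assoc] using this

theorem reduce_unique : ∀ {r : ℕ} {H : Matrix (Fin r) (Fin r) k⟦X⟧} {e : Fin r → ℕ} (_ : Red H e)
    (w : Fin r → k⟦X⟧), Low e (w ᵥ* H) → w = 0 := by
  intro r
  induction r with
  | zero => exact fun _ w _ => funext fun j => j.elim0
  | succ r ih =>
    intro H e h w hl
    obtain ⟨x, H', rfl, h', -⟩ := red_succ h
    rw [vecMul_blk] at hl
    have h0 : w 0 = 0 := PowerSeries.ext fun n => by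
      have := hl 0 (n + e 0) (by omega)
      rwa [Fin.cons_zero, coeff_mul_X_pow] at this
    have h1 := ih h' (fun i => w i.succ) fun j n hn => by
      have := hl j.succ n hn
      rwa [Fin.cons_succ, h0, zero_smul, zero_add] at this
    funext i
    induction i using Fin.cases with
    | zero => exact h0
    | succ i => exact congrFun h1 i

theorem det_ne_zero : ∀ {r : ℕ} {H : Matrix (Fin r) (Fin r) k⟦X⟧} {e : Fin r → ℕ}, Red H e → H.det ≠ 0 := by
  intro r
  induction r with
  | zero => intro H e _; simp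
  | succ r ih =>
    intro H e h
    obtain ⟨x, H', rfl, h', -⟩ := red_succ h
    rw [det_blk]
    exact mul_ne_zero (pow_ne_zero _ X_ne_zero) (ih h')

theorem eq_unit_mul {f : k⟦X⟧} (hf : f ≠ 0) : ∃ U : k⟦X⟧ˣ, f = (U : k⟦X⟧) * (X : k⟦X⟧) ^ f.order.toNat :=
  ⟨Unit_of_divided_by_X_pow_order f, by
    rw [Unit_of_divided_by_X_pow_order_nonzero hf, mul_comm]
    exact X_pow_order_mul_divXPowOrder.symm⟩

theorem eq_mul_pow {f : k⟦X⟧} {e : ℕ} (h : e ≤ f.order.toNat) : ∃ c, f = c * X ^ e := by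
  obtain ⟨c, hc⟩ := dvd_trans (pow_dvd_pow (X : k⟦X⟧) h) (X_pow_order_dvd (φ := f))
  exact ⟨c, hc.trans (mul_comm _ _)⟩

theorem clear_column {r : ℕ} (M : Matrix (Fin (r + 1)) (Fin (r + 1)) k⟦X⟧) (hM : M.det ≠ 0) :
    ∃ (N : Matrix (Fin (r + 1)) (Fin (r + 1)) k⟦X⟧) (e : ℕ) (v : Fin r → k⟦X⟧) (M' : Matrix (Fin r) (Fin r) k⟦X⟧),
      IsUnit N ∧ N * M = blk (X ^ e) v M' ∧ M'.det ≠ 0 := by
  classical
  have hne : (Finset.univ.filter fun i => M i 0 ≠ 0).Nonempty := by
    by_contra h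
    rw [Finset.not_nonempty_iff_eq_empty, Finset.filter_eq_empty_iff] at h
    exact hM (Matrix.det_eq_zero_of_column_eq_zero 0 fun i => not_not.1 (h (Finset.mem_univ i)))
  obtain ⟨i, hi, hmin⟩ := Finset.exists_min_image _ (fun i => (M i 0).order.toNat) hne
  rw [Finset.mem_filter] at hi
  let e := (M i 0).order.toNat
  obtain ⟨U, hU⟩ : ∃ U : k⟦X⟧ˣ, M i 0 = (U : k⟦X⟧) * (X : k⟦X⟧) ^ e := eq_unit_mul hi.2
  let M1 := M.submatrix (Equiv.swap 0 i) id
  have hdvd : ∀ j : Fin r, ∃ c, M1 j.succ 0 = c * X ^ e := fun j => by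
    by_cases hz : M1 j.succ 0 = 0
    · exact ⟨0, by rw [hz, zero_mul]⟩
    · exact eq_mul_pow (hmin _ (Finset.mem_filter.2 ⟨Finset.mem_univ _, hz⟩))
  choose c hc using hdvd
  let T := (blk (↑U⁻¹ : k⟦X⟧) (fun j => - c j * ↑U⁻¹) (1 : Matrix (Fin r) (Fin r) k⟦X⟧))ᵀ
  let S : Matrix (Fin (r + 1)) (Fin (r + 1)) k⟦X⟧ := (1 : Matrix _ _ _).submatrix (Equiv.swap 0 i) id
  have hS : S * M = M1 := by
    ext a b
    simp [S, M1, Matrix.mul_apply, Matrix.one_apply]
  have hSu : IsUnit S := by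
    rw [Matrix.isUnit_iff_isUnit_det, Matrix.det_permute, Matrix.det_one, mul_one]
    exact (Units.map (Int.castRingHom k⟦X⟧ : ℤ →* k⟦X⟧) (Equiv.Perm.sign (Equiv.swap 0 i))).isUnit
  have hTu : IsUnit T := by
    rw [Matrix.isUnit_iff_isUnit_det, Matrix.det_transpose, det_blk, Matrix.det_one, mul_one]
    exact U⁻¹.isUnit
  have h10 : M1 0 0 = (U : k⟦X⟧) * (X : k⟦X⟧) ^ e := by simp [M1, hU]
  have hcol : ∀ j : Fin r, (T * S * M) j.succ 0 = 0 := fun j => by
    rw [Matrix.mul_assoc, hS, Matrix.mul_apply, Fin.sum_univ_succ]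
    simp only [T, Matrix.transpose_apply, blk_succ_succ, blk_zero_succ, Matrix.one_apply, ite_mul, one_mul,
      zero_mul, Finset.sum_ite_eq', Finset.mem_univ, if_true, hc, h10]
    rw [mul_assoc, Units.inv_mul_cancel_left, neg_mul, neg_add_cancel]
  have h00 : (T * S * M) 0 0 = X ^ e := by
    rw [Matrix.mul_assoc, hS, Matrix.mul_apply, Fin.sum_univ_succ]
    simp [T, h10, Units.inv_mul_cancel_left]
  have heq := eq_blk (T * S * M) hcol
  rw [h00] at heq
  refine ⟨T * S, e, _, _, hTu.mul hSu, heq, fun h => ?_⟩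
  have := congrArg Matrix.det heq
  rw [det_blk, h, mul_zero, Matrix.det_mul] at this
  exact (mul_eq_zero.1 this).elim (((Matrix.isUnit_iff_isUnit_det _).1 (hTu.mul hSu)).ne_zero) hM

theorem isUnit_blk {r : ℕ} (v : Fin r → k⟦X⟧) {N : Matrix (Fin r) (Fin r) k⟦X⟧} (hN : IsUnit N) :
    IsUnit (blk 1 v N) := by
  rw [Matrix.isUnit_iff_isUnit_det, det_blk, one_mul]
  exact (Matrix.isUnit_iff_isUnit_det _).1 hN

theorem exists_red : ∀ {r : ℕ} (M : Matrix (Fin r) (Fin r) k⟦X⟧), M.det ≠ 0 →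
    ∃ (N : Matrix (Fin r) (Fin r) k⟦X⟧) (e : Fin r → ℕ), IsUnit N ∧ Red (N * M) e := by
  intro r
  induction r with
  | zero => exact fun M _ => ⟨1, 0, isUnit_one, fun i => i.elim0, fun i => i.elim0, fun i => i.elim0⟩
  | succ r ih =>
    intro M hM
    obtain ⟨N₀, e₀, v, M', hN₀, hNM, hM'⟩ := clear_column M hM
    obtain ⟨N, e, hN, hred⟩ := ih M' hM'
    obtain ⟨w, hw⟩ := reduce hred v
    refine ⟨blk 1 (w ᵥ* N) N * N₀, Fin.cons e₀ e, (isUnit_blk _ hN).mul hN₀, ?_⟩
    rw [Matrix.mul_assoc, hNM, blk_mul, one_mul, one_smul, Matrix.vecMul_vecMul]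
    exact red_blk hred e₀ hw

theorem red_unique : ∀ {r : ℕ} {H U : Matrix (Fin r) (Fin r) k⟦X⟧} {e e' : Fin r → ℕ},
    IsUnit U → Red H e → Red (U * H) e' → U = 1 := by
  intro r
  induction r with
  | zero => intro H U _ _ _ _ _; exact Subsingleton.elim _ _
  | succ r ih =>
    intro H U e e' hU h h'
    obtain ⟨x, H', rfl, hH', hx⟩ := red_succ h
    obtain ⟨y, K', hK, hK', hy⟩ := red_succ h'
    have hcol : ∀ j : Fin r, U j.succ 0 = 0 := fun j => by
      have := congrFun (congrFun hK j.succ) 0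
      rw [Matrix.mul_apply, Fin.sum_univ_succ] at this
      simpa [pow_ne_zero _ (X_ne_zero (R := k))] using this
    rw [eq_blk U hcol] at hK hU ⊢
    set a := U 0 0
    set w : Fin r → k⟦X⟧ := fun j => U 0 j.succ
    set U' := U.submatrix Fin.succ Fin.succ
    rw [blk_mul] at hK
    have h00 : a * X ^ e 0 = X ^ e' 0 := by simpa using congrFun (congrFun hK 0) 0
    have hv : a • x + w ᵥ* H' = y := funext fun j => by simpa using congrFun (congrFun hK 0) j.succ
    have hM : U' * H' = K' := Matrix.ext fun i j => by simpa using congrFun (congrFun hK i.succ) j.succ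
    rw [Matrix.isUnit_iff_isUnit_det, det_blk] at hU
    have ha : IsUnit a := isUnit_of_mul_isUnit_left hU
    have hU' : IsUnit U' := (Matrix.isUnit_iff_isUnit_det _).2 (isUnit_of_mul_isUnit_right hU)
    have he : e 0 = e' 0 := by
      have := congrArg PowerSeries.order h00
      rw [order_mul, order_zero_of_unit ha, zero_add, order_X_pow, order_X_pow] at this
      exact_mod_cast this
    have ha1 : a = 1 := mul_right_cancel₀ (pow_ne_zero (e 0) (X_ne_zero (R := k))) (by rw [h00, one_mul, he])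
    have hU1 := ih hU' hH' (hM ▸ hK')
    rw [hU1, Matrix.one_mul] at hM
    subst hM
    have hee : ∀ i : Fin r, e i.succ = e' i.succ := fun i => by
      have := congrArg PowerSeries.order ((hH'.1 i).symm.trans (hK'.1 i))
      rw [order_X_pow, order_X_pow] at this
      exact_mod_cast this
    have hw0 := reduce_unique hH' w fun j n hn => by
      have h1 : coeff n (y j) = 0 := hy j n (by simpa [← hee] using hn)
      rw [← congrFun hv j, ha1, one_smul, Pi.add_apply, map_add, hx j n hn, zero_add] at h1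
      exact h1
    rw [ha1, hw0, hU1, blk_one]

/-- column operations from `k[[t^p]]` -/
def InSub {r : ℕ} (p : ℕ) (P : Matrix (Fin r) (Fin r) k⟦X⟧) : Prop :=
  ∀ i j n, ¬ p ∣ n → coeff n (P i j) = 0

theorem exists_red_mod (p : ℕ) : ∀ {r : ℕ} (M : Matrix (Fin r) (Fin r) k⟦X⟧), M.det ≠ 0 →
    ∃ (N P : Matrix (Fin r) (Fin r) k⟦X⟧) (e : Fin r → ℕ), IsUnit N ∧ IsUnit P ∧ InSub p P ∧ Red (N * M * P) e ∧
      ∀ i j, i < j → ∀ n, e i ≤ n → n % p = e i % p → coeff n ((N * M * P) i j) = 0 := by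
  intro r
  induction r with
  | zero => exact fun M _ => ⟨1, 1, 0, isUnit_one, isUnit_one, fun i => i.elim0, ⟨fun i => i.elim0,
      fun i => i.elim0, fun i => i.elim0⟩, fun i => i.elim0⟩
  | succ r ih =>
    intro M hM
    obtain ⟨N₀, e₀, v, M', hN₀, hNM, hM'⟩ := clear_column M hM
    obtain ⟨N, P, e, hN, hP, hPs, hred, hext⟩ := ih M' hM'
    obtain ⟨w, hw⟩ := reduce hred (v ᵥ* P)
    set y := v ᵥ* P + w ᵥ* (N * M' * P) with hy
    let q : Fin r → k⟦X⟧ := fun j => mk fun m => if p ∣ m then - coeff (m + e₀) (y j) else 0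
    have hmul : blk 1 (w ᵥ* N) N * N₀ * M * blk 1 q P =
        blk (X ^ e₀) ((X : k⟦X⟧) ^ e₀ • q + y) (N * M' * P) := by
      rw [Matrix.mul_assoc (blk 1 (w ᵥ* N) N), hNM, blk_mul, blk_mul, one_mul, mul_one, one_smul, hy,
        Matrix.add_vecMul, Matrix.vecMul_vecMul, Matrix.vecMul_vecMul, Matrix.mul_assoc N M' P]
    have hz : ∀ j n, coeff n (((X : k⟦X⟧) ^ e₀ • q + y) j) =
        if e₀ ≤ n ∧ p ∣ n - e₀ then 0 else coeff n (y j) := fun j n => by
      rw [Pi.add_apply, Pi.smul_apply, smul_eq_mul, map_add, coeff_X_pow_mul']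
      by_cases hle : e₀ ≤ n
      · simp only [hle, true_and, if_true, q, coeff_mk, Nat.sub_add_cancel hle]
        split_ifs <;> simp
      · simp [hle]
    refine ⟨blk 1 (w ᵥ* N) N * N₀, blk 1 q P, Fin.cons e₀ e, (isUnit_blk _ hN).mul hN₀, isUnit_blk _ hP,
      fun i j n hn => ?_, hmul ▸ red_blk hred e₀ (fun j n hn => ?_), fun i j hij n hle hmod => ?_⟩
    · have hn0 : n ≠ 0 := fun h => hn (h ▸ dvd_zero p)
      induction i using Fin.cases with
      | zero => induction j using Fin.cases with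
        | zero => simp [coeff_one, hn0]
        | succ j => simp [q, hn]
      | succ i => induction j using Fin.cases with
        | zero => simp
        | succ j => simpa using hPs i j n hn
    · rw [hz]; split_ifs
      · rfl
      · exact hw j n hn
    · rw [hmul]
      induction j using Fin.cases with
      | zero => exact absurd hij (by simp)
      | succ j => induction i using Fin.cases with
        | zero =>
          rw [Fin.cons_zero] at hle hmod
          rw [blk_zero_succ, hz, if_pos ⟨hle, (Nat.modEq_iff_dvd' hle).1 (Eq.symm hmod)⟩]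
        | succ i =>
          rw [Fin.cons_succ] at hle hmod
          exact hext i j (Fin.succ_lt_succ_iff.1 hij) n hle hmod

end Groth.Agent.PSHermite
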